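import Mathlib
import Groth.Prelude.Def_NonAbH2

/-!
# Descent of morphisms along locally trivial schemes
-/

set_option autoImplicit false
set_option backward.isDefEq.respectTransparency false
universe u

open CategoryTheory CategoryTheory.Limits MonoidalCategory CartesianMonoidalCategory AlgebraicGeometry Opposite

noncomputable section

namespace TorsSeqLib

variable {S : Scheme.{u}} {X : Over S}

/-- A cover of any scheme over `S` by schemes with a point of `X`. -/
theorem exists_cover (h : NonAbH1.IsLocallyTrivialFor Scheme.fpqcPrecoverage X) (Z : Over S) :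
    ∃ (I : Type (u + 1)) (T : I → Over S) (z : ∀ i, T i ⟶ Z) (_x : ∀ i, T i ⟶ X),
      Presieve.ofArrows (fun i => (T i).left) (fun i => (z i).left) ∈ Scheme.fpqcPrecoverage Z.left := by
  obtain ⟨R, hR, hsec⟩ := h
  obtain ⟨E, rfl⟩ := Precoverage.mem_iff_exists_zeroHypercover.mp hR
  choose t ht using fun i => hsec (E.f i) (Presieve.ofArrows.mk i)
  refine ⟨E.I₀, fun i => Over.mk (pullback.fst Z.hom (E.f i) ≫ Z.hom), fun i => Over.homMk (pullback.fst Z.hom (E.f i)) rfl,
    fun i => Over.homMk (pullback.snd Z.hom (E.f i) ≫ t i) ?_, ?_⟩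
  · rw [Category.assoc, ht i]
    exact pullback.condition.symm
  · exact Precoverage.mem_coverings_of_isPullback E.f hR Z.hom (fun i => pullback.fst Z.hom (E.f i))
      (fun i => pullback.snd Z.hom (E.f i)) fun i => IsPullback.of_hasPullback _ _

theorem isSheafFor_of_cover {Y : Scheme.{u}} {I : Type (u + 1)} {W : I → Scheme.{u}} {Z : Scheme.{u}} {π : ∀ i, W i ⟶ Z}
    (h : Presieve.ofArrows W π ∈ Scheme.fpqcPrecoverage Z) : (Presieve.ofArrows W π).IsSheafFor (yoneda.obj Y) :=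
  (GrothendieckTopology.Subcanonical.isSheaf_of_isRepresentable (yoneda.obj Y)).isSheafFor _
    (Precoverage.generate_mem_toGrothendieck h)

/-- Morphisms agreeing on all points over points of `X` are equal. -/
theorem ext_cover (h : NonAbH1.IsLocallyTrivialFor Scheme.fpqcPrecoverage X) {Z M₀ : Over S} (a b : Z ⟶ M₀)
    (H : ∀ (T : Over S) (z : T ⟶ Z) (_x : T ⟶ X), z ≫ a = z ≫ b) : a = b := by
  obtain ⟨I, T, z, x, hc⟩ := exists_cover h Z
  refine Over.OverMorphism.ext ((isSheafFor_of_cover (Y := M₀.left) hc).isSeparatedFor.ext ?_)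
  rintro W f ⟨i⟩
  exact congrArg CommaMorphism.left (H _ (z i) (x i))

/-- A morphism independent of the point of `X` descends. -/
theorem descend (h : NonAbH1.IsLocallyTrivialFor Scheme.fpqcPrecoverage X) {Z M₀ : Over S} (φ : Z ⊗ X ⟶ M₀)
    (hφ : ∀ (T : Over S) (z : T ⟶ Z) (x x' : T ⟶ X), lift z x ≫ φ = lift z x' ≫ φ) :
    ∃ ψ : Z ⟶ M₀, ∀ (T : Over S) (z : T ⟶ Z) (x : T ⟶ X), z ≫ ψ = lift z x ≫ φ := by
  obtain ⟨I, T, z, x, hc⟩ := exists_cover h Z
  have hY := (Presieve.isSheafFor_arrows_iff _ _).1 (isSheafFor_of_cover (Y := M₀.left) hc)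
  have hcomp : Presieve.Arrows.Compatible (yoneda.obj M₀.left) (fun i => (z i).left)
      (fun i => (lift (z i) (x i) ≫ φ).left) := by
    intro i j W gi gj hg
    show gi ≫ (lift (z i) (x i) ≫ φ).left = gj ≫ (lift (z j) (x j) ≫ φ).left
    let U : Over S := Over.mk (gi ≫ (z i).left ≫ Z.hom)
    let a : U ⟶ T i := Over.homMk gi (by simp [U, Over.w (z i)])
    let b : U ⟶ T j := Over.homMk gj (by
      show gj ≫ (T j).hom = gi ≫ (z i).left ≫ Z.hom
      rw [reassoc_of% hg, Over.w (z j)])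
    have hab : a ≫ z i = b ≫ z j := Over.OverMorphism.ext hg
    have e := hφ U (a ≫ z i) (a ≫ x i) (b ≫ x j)
    conv_rhs at e => rw [hab]
    rw [← comp_lift, ← comp_lift, Category.assoc, Category.assoc] at e
    exact congrArg CommaMorphism.left e
  obtain ⟨ψl, hψ, -⟩ := hY _ hcomp
  have hψ' : ∀ i, (z i).left ≫ ψl = (lift (z i) (x i) ≫ φ).left := hψ
  let ψ : Z ⟶ M₀ := Over.homMk ψl ((isSheafFor_of_cover (Y := S) hc).isSeparatedFor.ext (by
    rintro W f ⟨i⟩
    show (z i).left ≫ ψl ≫ M₀.hom = (z i).left ≫ Z.hom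
    rw [← Category.assoc, hψ', Over.w, Over.w (z i)]))
  have key : ∀ i, z i ≫ ψ = lift (z i) (x i) ≫ φ := fun i => Over.OverMorphism.ext (hψ' i)
  refine ⟨ψ, fun U w y => ?_⟩
  obtain ⟨I', T', z', x', hc'⟩ := exists_cover h U
  refine Over.OverMorphism.ext ((isSheafFor_of_cover (Y := M₀.left) hc').isSeparatedFor.ext ?_)
  rintro W f ⟨i'⟩
  -- compare on the pieces of the first cover
  have hc'' := Precoverage.mem_coverings_of_isPullback (fun i => (z i).left) hc (z' i' ≫ w).left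
    (fun i => pullback.fst (z' i' ≫ w).left (z i).left) (fun i => pullback.snd (z' i' ≫ w).left (z i).left)
    fun i => IsPullback.of_hasPullback _ _
  refine (isSheafFor_of_cover (Y := M₀.left) hc'').isSeparatedFor.ext ?_
  rintro V g ⟨i⟩
  let P := pullback (z' i' ≫ w).left (z i).left
  let U' : Over S := Over.mk (pullback.fst (z' i' ≫ w).left (z i).left ≫ (T' i').hom)
  let a : U' ⟶ T' i' := Over.homMk (pullback.fst _ _) rfl
  let b : U' ⟶ T i := Over.homMk (pullback.snd _ _) (by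
    show pullback.snd _ _ ≫ (T i).hom = pullback.fst _ _ ≫ (T' i').hom
    rw [← Over.w (z i), ← pullback.condition_assoc, Over.w (z' i' ≫ w)])
  have hab : a ≫ z' i' ≫ w = b ≫ z i := Over.OverMorphism.ext pullback.condition
  have h1 : a ≫ z' i' ≫ w ≫ ψ = a ≫ z' i' ≫ lift w y ≫ φ := by
    have h2 : a ≫ z' i' ≫ w ≫ ψ = lift (b ≫ z i) (b ≫ x i) ≫ φ := by
      rw [← comp_lift, Category.assoc, ← key i, ← reassoc_of% hab]
    rw [h2, hφ U' (b ≫ z i) (b ≫ x i) (a ≫ z' i' ≫ y), ← hab]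
    simp only [comp_lift_assoc]
  exact congrArg CommaMorphism.left h1

/-- A global point, from a morphism independent of the point of `X`. -/
theorem descend_point (h : NonAbH1.IsLocallyTrivialFor Scheme.fpqcPrecoverage X) {M₀ : Over S} (φ : X ⟶ M₀)
    (hφ : ∀ (T : Over S) (x x' : T ⟶ X), x ≫ φ = x' ≫ φ) :
    ∃ f : 𝟙_ (Over S) ⟶ M₀, ∀ (T : Over S) (x : T ⟶ X), toUnit T ≫ f = x ≫ φ := by
  obtain ⟨f, hf⟩ := descend h (Z := 𝟙_ (Over S)) (snd _ _ ≫ φ) fun T z x x' => by
    rw [lift_snd_assoc, lift_snd_assoc]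
    exact hφ T x x'
  exact ⟨f, fun T x => (hf T (toUnit T) x).trans (lift_snd_assoc _ _ _)⟩

end TorsSeqLib
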