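import Groth.Agent.TorsSeqLib.Main

/-!
# Maps out of a pushforward torsor
-/

set_option autoImplicit false
set_option backward.isDefEq.respectTransparency false
set_option maxHeartbeats 1000000
universe u

open CategoryTheory CategoryTheory.Limits MonoidalCategory CartesianMonoidalCategory AlgebraicGeometry
open scoped MonObj

attribute [-instance] CategoryTheory.Hom.commGroup

noncomputable section

namespace TorsSeqLib

variable {S : Scheme.{u}}

theorem existsUnique_map {J J' J'' P P' P'' : Over S} [GrpObj J] [GrpObj J'] [GrpObj J'']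
    (u : J ⟶ J') (v : J' ⟶ J'') [IsMonHom v]
    (a : AlgGrp.Action J P) (a' : AlgGrp.Action J' P') (a'' : AlgGrp.Action J'' P'')
    (hP : NonAbH1.IsTorsorFor Scheme.fpqcPrecoverage a) (hP' : NonAbH1.IsPseudoTorsorSch a')
    (q' : P ⟶ P') (hq' : a.act ≫ q' = lift (fst J P ≫ u) (snd J P ≫ q') ≫ a'.act)
    (q'' : P ⟶ P'') (hq'' : a.act ≫ q'' = lift (fst J P ≫ u ≫ v) (snd J P ≫ q'') ≫ a''.act) :
    ∃! r : P' ⟶ P'', a'.act ≫ r = lift (fst J' P' ≫ v) (snd J' P' ≫ r) ≫ a''.act ∧ q' ≫ r = q'' := by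
  rw [push_iff] at hq' hq''
  obtain ⟨θ, hθ⟩ := exists_act_eq hP' (snd P' P ≫ q') (fst P' P)
  have hθT : ∀ {T : Over S} (x : T ⟶ P') (p : T ⟶ P), act a' (lift x p ≫ θ) (p ≫ q') = x := fun {T} x p => by
    have := congrArg (lift x p ≫ ·) hθ
    simp only [comp_act, lift_fst, lift_snd_assoc] at this
    exact this
  let φ : P' ⊗ P ⟶ P'' := act a'' (θ ≫ v) (snd P' P ≫ q'')
  have hφ : ∀ {T : Over S} (x : T ⟶ P') (p : T ⟶ P),
      lift x p ≫ φ = act a'' ((lift x p ≫ θ) ≫ v) (p ≫ q'') := fun {T} x p => by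
    simp only [φ, comp_act, lift_snd_assoc, Category.assoc]
  obtain ⟨r, hr⟩ := descend hP.2 φ fun T x p p' => by
    obtain ⟨j, rfl⟩ := exists_act_eq hP.1 p p'
    have h1 : (lift x (act a j p) ≫ θ) * (j ≫ u) = lift x p ≫ θ := act_cancel hP' (x := p ≫ q') (by
      rw [act_mul, ← hq', hθT, hθT])
    rw [hφ, hφ, hq'', ← h1, MonObj.mul_comp, act_mul, Category.assoc j]
  have hrT : ∀ {T : Over S} (x : T ⟶ P') (p : T ⟶ P), x ≫ r = act a'' ((lift x p ≫ θ) ≫ v) (p ≫ q'') :=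
    fun {T} x p => (hr T x p).trans (hφ x p)
  refine ⟨r, ⟨(push_iff _ _ _ _).2 fun T g x => ext_cover hP.2 _ _ fun T' z p => ?_, ?_⟩, fun r' hr' => ?_⟩
  · have h2 : lift (act a' (z ≫ g) (z ≫ x)) p ≫ θ = (z ≫ g) * (lift (z ≫ x) p ≫ θ) :=
      act_cancel hP' (x := p ≫ q') (by rw [act_mul, hθT, hθT])
    rw [← Category.assoc, comp_act, hrT _ p, h2, comp_act, ← Category.assoc z x, hrT _ p, MonObj.mul_comp, act_mul,
      Category.assoc z g]
  · refine ext_cover hP.2 _ _ fun T z p => ?_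
    have h3 : lift (z ≫ q') z ≫ θ = 1 := act_cancel hP' (x := z ≫ q') (by rw [hθT, act_one])
    rw [← Category.assoc, hrT _ z, h3, MonObj.one_comp, act_one]
  · refine ext_cover hP.2 _ _ fun T x p => ?_
    rw [hrT x p]
    conv_lhs => rw [← hθT x p]
    rw [(push_iff _ _ _ _).1 hr'.1, Category.assoc p, hr'.2]

end TorsSeqLib
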