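import Groth.Agent.TorsSeqLib.Descend

/-!
# The cohomology sequence at degree one
-/

set_option autoImplicit false
set_option backward.isDefEq.respectTransparency false
set_option maxHeartbeats 1000000
universe u

open CategoryTheory CategoryTheory.Limits MonoidalCategory CartesianMonoidalCategory AlgebraicGeometry
open scoped MonObj

attribute [-instance] CategoryTheory.Hom.commGroup

noncomputable section

namespace TorsSeqLib

variable {S : Scheme.{u}}

section action

variable {G X : Over S} [GrpObj G] (a : AlgGrp.Action G X)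

/-- The action on points. -/
abbrev act {T : Over S} (g : T ⟶ G) (x : T ⟶ X) : T ⟶ X := lift g x ≫ a.act

theorem act_one {T : Over S} (x : T ⟶ X) : act a (1 : T ⟶ G) x = x := by
  have e : lift (1 : T ⟶ G) x = lift (toUnit T) x ≫ (η[G] ▷ X) := by
    refine CartesianMonoidalCategory.hom_ext _ _ ?_ (by simp)
    simp [Hom.one_def]
  rw [act, e, Category.assoc, a.one_act, leftUnitor_hom, lift_snd]

theorem act_mul {T : Over S} (g g' : T ⟶ G) (x : T ⟶ X) : act a (g * g') x = act a g (act a g' x) := by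
  have e : lift (g * g') x = lift (lift g g') x ≫ (μ[G] ▷ X) := by
    refine CartesianMonoidalCategory.hom_ext _ _ ?_ (by simp)
    simp [Hom.mul_def]
  rw [act, act, act, e, Category.assoc, a.mul_act, lift_lift_associator_hom_assoc, lift_whiskerLeft_assoc]

theorem comp_act {T T' : Over S} (f : T' ⟶ T) (g : T ⟶ G) (x : T ⟶ X) :
    f ≫ act a g x = act a (f ≫ g) (f ≫ x) := by
  rw [act, act, ← Category.assoc, comp_lift]

variable {a} (ha : NonAbH1.IsPseudoTorsorSch a)

include ha in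
theorem exists_act_eq {T : Over S} (x x' : T ⟶ X) : ∃ g : T ⟶ G, act a g x = x' := by
  haveI : IsIso (lift a.act (snd G X)) := ha
  let m := lift x' x ≫ inv (lift a.act (snd G X))
  have h := Category.assoc (lift x' x) (inv (lift a.act (snd G X))) (lift a.act (snd G X))
  rw [IsIso.inv_hom_id, Category.comp_id] at h
  have h1 : m ≫ snd G X = x := by
    have := congrArg (· ≫ snd X X) h
    simpa [m] using this
  have h2 : m ≫ a.act = x' := by
    have := congrArg (· ≫ fst X X) h
    simpa [m] using this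
  refine ⟨m ≫ fst G X, ?_⟩
  have e : lift (m ≫ fst G X) x = m := CartesianMonoidalCategory.hom_ext _ _ (lift_fst _ _) (by rw [lift_snd, h1])
  rw [act, e, h2]

include ha in
theorem act_cancel {T : Over S} {g g' : T ⟶ G} {x : T ⟶ X} (h : act a g x = act a g' x) : g = g' := by
  haveI : IsIso (lift a.act (snd G X)) := ha
  have : lift g x ≫ lift a.act (snd G X) = lift g' x ≫ lift a.act (snd G X) := by
    rw [comp_lift, comp_lift, lift_snd, lift_snd]
    exact congrArg (lift · x) h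
  have := congrArg (· ≫ fst G X) ((cancel_mono _).1 this)
  simpa using this

end action

theorem trivialAction_act {G : Over S} [GrpObj G] {T : Over S} (g x : T ⟶ G) :
    act (NonAbH1.trivialAction G) g x = g * x := (Hom.mul_def g x).symm

/-- The defining identity of a pushforward, on points. -/
theorem push_iff {G G' X X' : Over S} [GrpObj G] [GrpObj G'] (φ : G ⟶ G') (a : AlgGrp.Action G X)
    (a' : AlgGrp.Action G' X') (f : X ⟶ X') :
    (a.act ≫ f = lift (fst G X ≫ φ) (snd G X ≫ f) ≫ a'.act) ↔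
      ∀ (T : Over S) (g : T ⟶ G) (x : T ⟶ X), act a g x ≫ f = act a' (g ≫ φ) (x ≫ f) := by
  refine ⟨fun h T g x => ?_, fun h => ?_⟩
  · rw [act, act, Category.assoc, h, ← Category.assoc, comp_lift, lift_fst_assoc, lift_snd_assoc]
  · have := h (G ⊗ X) (fst G X) (snd G X)
    simpa [act] using this

section exact

variable {G G' G'' : Over S} [GrpObj G] [GrpObj G'] [GrpObj G'']
variable {u : G' ⟶ G} {v : G ⟶ G''}

theorem u_v (hex : NonAbH1.IsExactSeq Scheme.fpqcPrecoverage u v) {T : Over S} (g : T ⟶ G') : (g ≫ u) ≫ v = 1 := by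
  rw [Category.assoc, hex.2.2.1, MonObj.comp_one]

theorem exists_lift_ker (hex : NonAbH1.IsExactSeq Scheme.fpqcPrecoverage u v) {T : Over S} {x y : T ⟶ G}
    (h : x ≫ v = y ≫ v) : ∃ g : T ⟶ G', x * (g ≫ u) = y := by
  obtain ⟨-, -, -, hsq, -⟩ := hex
  obtain ⟨m, h1, h2⟩ : ∃ m : T ⟶ G ⊗ G', m ≫ fst G G' = x ∧ m ≫ ((G ◁ u) ≫ μ[G]) = y :=
    ⟨hsq.lift x y h, hsq.lift_fst _ _ _, hsq.lift_snd _ _ _⟩
  refine ⟨m ≫ snd G G', ?_⟩
  rw [MonObj.mul_eq_mul, MonObj.comp_mul, whiskerLeft_fst, whiskerLeft_snd, MonObj.comp_mul, h1, ← Category.assoc] at h2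
  exact h2

theorem u_injective (hex : NonAbH1.IsExactSeq Scheme.fpqcPrecoverage u v) {T : Over S} {g g' : T ⟶ G'}
    (h : g ≫ u = g' ≫ u) : g = g' := by
  obtain ⟨-, -, -, hsq, -⟩ := hex
  have : lift (1 : T ⟶ G) g = lift (1 : T ⟶ G) g' := by
    refine hsq.hom_ext (by simp) ?_
    rw [lift_whiskerLeft_assoc, lift_whiskerLeft_assoc, h]
  simpa using congrArg (· ≫ snd G G') this

/-- A trivialised extension of the structure group is a boundary. -/
theorem isPullbackTorsor_of_push [IsCommMonObj G] (hex : NonAbH1.IsExactSeq Scheme.fpqcPrecoverage u v)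
    {Q : Over S} (aQ : AlgGrp.Action G' Q) (hQ : NonAbH1.IsTorsorFor Scheme.fpqcPrecoverage aQ)
    (h : NonAbH1.IsPushforwardAlongSch u aQ (NonAbH1.trivialAction G)) :
    ∃ (f : 𝟙_ (Over S) ⟶ G'') (i : Q ⟶ G), NonAbH1.IsPullbackTorsor u v f i aQ := by
  haveI := hex.1; haveI := hex.2.1
  obtain ⟨k, hk⟩ := h
  rw [push_iff] at hk
  simp only [trivialAction_act] at hk
  have hi : ∀ (T : Over S) (g : T ⟶ G') (q : T ⟶ Q), act aQ g q ≫ k⁻¹ = (q ≫ k⁻¹) * (g ≫ u)⁻¹ := fun T g q => by
    rw [GrpObj.comp_inv, GrpObj.comp_inv, hk, mul_inv_rev]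
  obtain ⟨f, hf⟩ := descend_point hQ.2 (k⁻¹ ≫ v) fun T x x' => by
    obtain ⟨g, rfl⟩ := exists_act_eq hQ.1 x x'
    rw [← Category.assoc, ← Category.assoc, hi, MonObj.mul_comp, GrpObj.inv_comp, u_v hex, inv_one, mul_one]
  refine ⟨f, k⁻¹, hex.1, hex.2.1, IsPullback.of_isLimit' ⟨?_⟩ (PullbackCone.isLimitAux' _ fun s => ?_),
    fun T g' p => (Category.assoc _ _ _).symm.trans (hi T g' p)⟩
  · simpa using (hf Q (𝟙 _)).symm
  · have hinj : ∀ {T : Over S} (q q' : T ⟶ Q), q ≫ k⁻¹ = q' ≫ k⁻¹ → q = q' := fun {T} q q' hq => by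
      obtain ⟨g, rfl⟩ := exists_act_eq hQ.1 q q'
      rw [hi] at hq
      have h1 : g ≫ u = (1 : T ⟶ G') ≫ u := by
        rw [MonObj.one_comp]
        exact inv_eq_one.1 (left_eq_mul.1 hq)
      rw [u_injective hex h1, act_one]
    have hs : s.fst ≫ v = toUnit s.pt ≫ f := s.condition.trans (by rw [toUnit_unique s.snd (toUnit _)])
    have hc : (fst s.pt Q ≫ s.fst) ≫ v = ((snd s.pt Q) ≫ k⁻¹) ≫ v := by
      rw [Category.assoc, hs, ← Category.assoc, toUnit_unique (fst _ _ ≫ toUnit _) (toUnit _), hf _ (snd _ _),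
        Category.assoc]
    suffices H : ∃ q : s.pt ⟶ Q, q ≫ k⁻¹ = s.fst from
      ⟨H.choose, H.choose_spec, toUnit_unique _ _, fun {m} h1 _ => hinj _ _ (h1.trans H.choose_spec.symm)⟩
    obtain ⟨g, hg⟩ := exists_lift_ker hex hc
    have hφ : act aQ g (snd s.pt Q) ≫ k⁻¹ = fst s.pt Q ≫ s.fst := by
      rw [hi, mul_inv_eq_iff_eq_mul]
      exact hg.symm
    obtain ⟨q, hq⟩ := descend hQ.2 (act aQ g (snd s.pt Q)) fun T z x x' => by
      refine hinj _ _ ?_
      rw [Category.assoc (lift z x), Category.assoc (lift z x'), hφ, lift_fst_assoc, lift_fst_assoc]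
    have hqk : q ≫ k⁻¹ = s.fst := ext_cover hQ.2 _ _ fun T z x => by
      rw [← Category.assoc, hq T z x, Category.assoc (lift z x), hφ, lift_fst_assoc]
    exact ⟨q, hqk⟩

theorem push_of_isPullbackTorsor [IsCommMonObj G] {Q : Over S} (aQ : AlgGrp.Action G' Q) {f : 𝟙_ (Over S) ⟶ G''}
    {i : Q ⟶ G} (h : NonAbH1.IsPullbackTorsor u v f i aQ) :
    NonAbH1.IsPushforwardAlongSch u aQ (NonAbH1.trivialAction G) := by
  refine ⟨i⁻¹, (push_iff _ _ _ _).2 fun T g x => ?_⟩
  rw [trivialAction_act, GrpObj.comp_inv, GrpObj.comp_inv]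
  have := h.2.2.2 T g x
  rw [← Category.assoc] at this
  rw [show act aQ g x ≫ i = _ from this, mul_inv_rev, inv_inv]

/-- An extension of structure group from the kernel is killed by the quotient. -/
theorem push_trivial_of_push [IsCommMonObj G''] (hex : NonAbH1.IsExactSeq Scheme.fpqcPrecoverage u v)
    {P Q : Over S} (aP : AlgGrp.Action G P) (hP : NonAbH1.IsTorsorFor Scheme.fpqcPrecoverage aP)
    (aQ : AlgGrp.Action G' Q) (hQ : NonAbH1.IsTorsorFor Scheme.fpqcPrecoverage aQ)
    (h : NonAbH1.IsPushforwardAlongSch u aQ aP) :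
    NonAbH1.IsPushforwardAlongSch v aP (NonAbH1.trivialAction G'') := by
  haveI := hex.1; haveI := hex.2.1
  obtain ⟨k, hk⟩ := h
  rw [push_iff] at hk
  obtain ⟨θ, hθ⟩ := exists_act_eq hP.1 (snd P Q ≫ k) (fst P Q)
  have hθT : ∀ {T : Over S} (p : T ⟶ P) (q : T ⟶ Q), act aP (lift p q ≫ θ) (q ≫ k) = p := fun {T} p q => by
    have := congrArg (lift p q ≫ ·) hθ
    simp only [comp_act, lift_fst, lift_snd_assoc] at this
    exact this
  obtain ⟨h, hh⟩ := descend hQ.2 (θ ≫ v) fun T p q q' => by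
    obtain ⟨g, rfl⟩ := exists_act_eq hQ.1 q q'
    have h1 : (lift p (act aQ g q) ≫ θ) * (g ≫ u) = lift p q ≫ θ := act_cancel hP.1 (x := q ≫ k) (by
      rw [act_mul, ← hk, hθT, hθT])
    rw [← Category.assoc, ← Category.assoc, ← h1, MonObj.mul_comp, u_v hex, mul_one]
  refine ⟨h, (push_iff _ _ _ _).2 fun T g p => ext_cover hQ.2 _ _ fun T' z q => ?_⟩
  rw [trivialAction_act, MonObj.comp_mul, ← Category.assoc z g, ← Category.assoc z p, hh _ _ q,
    ← Category.assoc z (act aP g p), hh _ _ q, ← Category.assoc, ← Category.assoc, ← Category.assoc (lift (z ≫ p) q),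
    ← MonObj.mul_comp]
  congr 1
  refine act_cancel hP.1 (x := q ≫ k) ?_
  rw [hθT, act_mul, hθT]
  exact (Category.assoc _ _ _).trans (comp_act aP z g p)

/-- A torsor killed by the quotient comes from the kernel. -/
theorem exists_push_of_trivial (hex : NonAbH1.IsExactSeq Scheme.fpqcPrecoverage u v)
    {P : Over S} (aP : AlgGrp.Action G P) (hP : NonAbH1.IsTorsorFor Scheme.fpqcPrecoverage aP)
    (h : NonAbH1.IsPushforwardAlongSch v aP (NonAbH1.trivialAction G'')) :
    ∃ Q : NonAbH1.TorsorSch G' Scheme.fpqcPrecoverage, NonAbH1.IsPushforwardAlongSch u Q.act aP := by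
  haveI := hex.1; haveI := hex.2.1
  obtain ⟨k, hk⟩ := h
  rw [push_iff] at hk
  simp only [trivialAction_act] at hk
  let Q := pullback k (1 : 𝟙_ (Over S) ⟶ G'')
  let j : Q ⟶ P := pullback.fst _ _
  have hj : ∀ {T : Over S} (q : T ⟶ Q), (q ≫ j) ≫ k = 1 := fun {T} q => by
    rw [Category.assoc, pullback.condition, ← Category.assoc, MonObj.comp_one]
  have hmono : ∀ {T : Over S} (q q' : T ⟶ Q), q ≫ j = q' ≫ j → q = q' := fun {T} q q' hq =>
    pullback.hom_ext hq (toUnit_unique _ _)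
  let act' : G' ⊗ Q ⟶ Q := pullback.lift (act aP (fst G' Q ≫ u) (snd G' Q ≫ j)) (toUnit _) (by
    rw [hk, u_v hex, hj, mul_one, MonObj.comp_one])
  have hact : ∀ {T : Over S} (g : T ⟶ G') (q : T ⟶ Q),
      (lift g q ≫ act') ≫ j = act aP (g ≫ u) (q ≫ j) := fun {T} g q => by
    rw [Category.assoc, pullback.lift_fst, comp_act, lift_fst_assoc, lift_snd_assoc]
  let aQ : AlgGrp.Action G' Q :=
    { act := act'
      one_act := by
        refine hmono _ _ ?_
        have e : (η[G'] ▷ Q) = lift (1 : 𝟙_ (Over S) ⊗ Q ⟶ G') (snd _ _) := by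
          refine CartesianMonoidalCategory.hom_ext _ _ ?_ (by simp)
          simp [Hom.one_def, toUnit_unique (fst (𝟙_ (Over S)) Q) (toUnit _)]
        rw [e, hact, MonObj.one_comp, act_one, leftUnitor_hom]
      mul_act := by
        refine hmono _ _ ?_
        have e : (μ[G'] ▷ Q) = lift ((fst _ _ ≫ fst _ _) * (fst _ _ ≫ snd _ _)) (snd _ _) := by
          refine CartesianMonoidalCategory.hom_ext _ _ ?_ (by simp)
          simp [Hom.mul_def, ← comp_lift]
        have e2 : (α_ G' G' Q).hom ≫ (G' ◁ act') ≫ act' =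
            lift (fst _ _ ≫ fst _ _) (lift (fst _ _ ≫ snd _ _) (snd _ _) ≫ act') ≫ act' := by
          have e3 : (α_ G' G' Q).hom ≫ (G' ◁ act') =
              lift (fst _ _ ≫ fst _ _) (lift (fst _ _ ≫ snd _ _) (snd _ _) ≫ act') := by
            refine CartesianMonoidalCategory.hom_ext _ _ (by simp) ?_
            rw [Category.assoc, whiskerLeft_snd, lift_snd, ← Category.assoc]
            exact congrArg (· ≫ act') (CartesianMonoidalCategory.hom_ext _ _ (by simp) (by simp))
          rw [← Category.assoc, e3]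
        rw [e, hact, e2, hact, hact, MonObj.mul_comp, act_mul] }
  have hjT : ∀ {T : Over S} (x y : T ⟶ Q), ∃ g : T ⟶ G', act aQ g y = x := fun {T} x y => by
    obtain ⟨θ, hθ⟩ := exists_act_eq hP.1 (y ≫ j) (x ≫ j)
    have h1 := congrArg (· ≫ k) hθ
    rw [hk, hj, hj, mul_one] at h1
    obtain ⟨g, hg⟩ := exists_lift_ker hex (x := (1 : T ⟶ G)) (y := θ) (by rw [MonObj.one_comp, h1])
    rw [one_mul] at hg
    exact ⟨g, hmono _ _ ((hact g y).trans (by rw [hg, hθ]))⟩
  have hps : NonAbH1.IsPseudoTorsorSch aQ := by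
    obtain ⟨g, hg⟩ := hjT (fst Q Q) (snd Q Q)
    refine ⟨lift g (snd Q Q), ?_, ?_⟩
    · refine CartesianMonoidalCategory.hom_ext _ _ ?_ (by simp)
      rw [Category.assoc, lift_fst, Category.id_comp]
      have h1 := congrArg (lift aQ.act (snd G' Q) ≫ ·) hg
      simp only [comp_act, lift_fst, lift_snd] at h1
      refine u_injective hex (act_cancel hP.1 (x := snd G' Q ≫ j) ?_)
      rw [← hact, ← hact]
      refine congrArg (· ≫ j) (h1.trans ?_)
      rw [lift_fst_snd, Category.id_comp]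
    · refine CartesianMonoidalCategory.hom_ext _ _ ?_ (by simp)
      rw [Category.assoc, lift_fst, Category.id_comp]
      exact hg
  -- local sections
  have hloc : NonAbH1.IsLocallyTrivialFor Scheme.fpqcPrecoverage Q := by
    obtain ⟨R, hR, hsec⟩ := hP.2
    obtain ⟨E, rfl⟩ := Precoverage.mem_iff_exists_zeroHypercover.mp hR
    choose t ht using fun i => hsec (E.f i) (Presieve.ofArrows.mk i)
    obtain ⟨-, -, -, -, R', hR', hsec'⟩ := hex
    obtain ⟨F, rfl⟩ := Precoverage.mem_iff_exists_zeroHypercover.mp hR'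
    choose s hs using fun l => hsec' (F.f l) (Presieve.ofArrows.mk l)
    let p : ∀ i, Over.mk (E.f i) ⟶ P := fun i => Over.homMk (t i) (ht i)
    refine ⟨_, Precoverage.comp_mem_coverings (J := Scheme.fpqcPrecoverage) E.f hR (σ := fun _ => F.I₀)
      (Y := fun i l => pullback (p i ≫ k).left (F.f l)) (fun i l => pullback.fst (p i ≫ k).left (F.f l))
      (fun i => Precoverage.mem_coverings_of_isPullback F.f hR' (p i ≫ k).left
        (fun l => pullback.fst (p i ≫ k).left (F.f l)) (fun l => pullback.snd (p i ≫ k).left (F.f l))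
        fun l => IsPullback.of_hasPullback _ _), ?_⟩
    rintro S' f ⟨⟨i, l⟩⟩
    let T : Over S := Over.mk (pullback.fst (p i ≫ k).left (F.f l) ≫ E.f i)
    let b : T ⟶ Over.mk (E.f i) := Over.homMk (pullback.fst _ _) rfl
    have hsl : s l ≫ v.left = F.f l := hs l
    let c : T ⟶ G := Over.homMk (pullback.snd _ _ ≫ s l) (by
      show (pullback.snd _ _ ≫ s l) ≫ G.hom = pullback.fst _ _ ≫ E.f i
      rw [← Over.w v, Category.assoc, reassoc_of% hsl, ← pullback.condition_assoc, Over.w (p i ≫ k)]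
      rfl)
    have hc : c ≫ v = b ≫ p i ≫ k := Over.OverMorphism.ext (by
      show (pullback.snd _ _ ≫ s l) ≫ v.left = pullback.fst _ _ ≫ (p i ≫ k).left
      rw [Category.assoc, hsl, pullback.condition])
    let q : T ⟶ Q := pullback.lift (act aP c⁻¹ (b ≫ p i)) (toUnit _) (by
      rw [hk, GrpObj.inv_comp, hc, Category.assoc, inv_mul_cancel, MonObj.comp_one])
    exact ⟨q.left, Over.w q⟩
  exact ⟨⟨Q, aQ, hps, hloc⟩, j, (push_iff _ _ _ _).2 fun T g q => hact g q⟩

end exact

end TorsSeqLib
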