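import Groth.Agent.TorsSeqLib.Main
import Mathlib.AlgebraicGeometry.Sites.Proetale

/-!
# Reductions of the structure group and sections of the quotient
-/

set_option autoImplicit false
set_option backward.isDefEq.respectTransparency false
set_option maxHeartbeats 1000000
universe u

open CategoryTheory CategoryTheory.Limits MonoidalCategory CartesianMonoidalCategory AlgebraicGeometry
open scoped MonObj

attribute [-instance] CategoryTheory.Hom.commGroup

noncomputable section

namespace TorsSeqLib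

variable {S : Scheme.{u}} {G F Q : Over S} [GrpObj G] (b : AlgGrp.Action G F) (π : F ⟶ Q)
  (hsq : IsPullback b.act (snd G F) π π)

include hsq

theorem act_π {T : Over S} (g : T ⟶ G) (x : T ⟶ F) : act b g x ≫ π = x ≫ π := by
  rw [act, Category.assoc, hsq.w, lift_snd_assoc]

theorem exists_act_eq_of_π {T : Over S} (x y : T ⟶ F) (h : y ≫ π = x ≫ π) : ∃ g : T ⟶ G, act b g x = y := by
  obtain ⟨m, h1, h2⟩ : ∃ m : T ⟶ G ⊗ F, m ≫ b.act = y ∧ m ≫ snd G F = x :=
    ⟨hsq.lift y x h, hsq.lift_fst _ _ _, hsq.lift_snd _ _ _⟩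
  refine ⟨m ≫ fst G F, ?_⟩
  have e : lift (m ≫ fst G F) x = m := CartesianMonoidalCategory.hom_ext _ _ (lift_fst _ _) (by rw [lift_snd, h2])
  rw [act, e, h1]

theorem act_cancel_of_π {T : Over S} {g g' : T ⟶ G} {x : T ⟶ F} (h : act b g x = act b g' x) : g = g' := by
  have : lift g x = lift g' x := hsq.hom_ext h (by rw [lift_snd, lift_snd])
  simpa using congrArg (· ≫ fst G F) this

theorem exists_reduction (hloc : NonAbH1.IsLocallyTrivialFor Scheme.etalePrecoverage (Over.mk π.left : Over Q.left))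
    (σ : 𝟙_ (Over S) ⟶ Q) :
    ∃ (E : Over S) (aE : AlgGrp.Action G E) (φ : E ⟶ F), NonAbH1.IsTorsorFor Scheme.etalePrecoverage aE ∧
      aE.act ≫ φ = (G ◁ φ) ≫ b.act ∧ IsPullback φ (toUnit E) π σ := by
  haveI : Scheme.etalePrecoverage.IsStableUnderBaseChange := by
    rw [Scheme.etalePrecoverage]; infer_instance
  let E := pullback π σ
  let j : E ⟶ F := pullback.fst π σ
  have hj : ∀ {T : Over S} (e : T ⟶ E), (e ≫ j) ≫ π = toUnit T ≫ σ := fun {T} e => by
    rw [Category.assoc, pullback.condition, ← Category.assoc]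
    exact congrArg (· ≫ σ) (toUnit_unique _ _)
  have hmono : ∀ {T : Over S} (e e' : T ⟶ E), e ≫ j = e' ≫ j → e = e' := fun {T} e e' he =>
    pullback.hom_ext he (toUnit_unique _ _)
  let act' : G ⊗ E ⟶ E := pullback.lift (act b (fst G E) (snd G E ≫ j)) (toUnit _) (by
    rw [act_π b π hsq, hj])
  have hact : ∀ {T : Over S} (g : T ⟶ G) (e : T ⟶ E), (lift g e ≫ act') ≫ j = act b g (e ≫ j) := fun {T} g e => by
    rw [Category.assoc, pullback.lift_fst, comp_act, lift_fst, lift_snd_assoc]
  let aE : AlgGrp.Action G E :=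
    { act := act'
      one_act := by
        refine hmono _ _ ?_
        have e : (η[G] ▷ E) = lift (1 : 𝟙_ (Over S) ⊗ E ⟶ G) (snd _ _) := by
          refine CartesianMonoidalCategory.hom_ext _ _ ?_ (by simp)
          simp [Hom.one_def, toUnit_unique (fst (𝟙_ (Over S)) E) (toUnit _)]
        rw [e, hact, act_one, leftUnitor_hom]
      mul_act := by
        refine hmono _ _ ?_
        have e : (μ[G] ▷ E) = lift ((fst _ _ ≫ fst _ _) * (fst _ _ ≫ snd _ _)) (snd _ _) := by
          refine CartesianMonoidalCategory.hom_ext _ _ ?_ (by simp)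
          simp [Hom.mul_def, ← comp_lift]
        have e2 : (α_ G G E).hom ≫ (G ◁ act') =
            lift (fst _ _ ≫ fst _ _) (lift (fst _ _ ≫ snd _ _) (snd _ _) ≫ act') := by
          refine CartesianMonoidalCategory.hom_ext _ _ (by simp) ?_
          rw [Category.assoc, whiskerLeft_snd, lift_snd, ← Category.assoc]
          exact congrArg (· ≫ act') (CartesianMonoidalCategory.hom_ext _ _ (by simp) (by simp))
        rw [e, hact, ← Category.assoc (α_ G G E).hom, e2, hact, hact, act_mul] }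
  refine ⟨E, aE, j, ⟨?_, ?_⟩, ?_, ?_⟩
  · obtain ⟨g, hg⟩ := exists_act_eq_of_π b π hsq (snd E E ≫ j) (fst E E ≫ j) ((hj _).trans (hj _).symm)
    have hg' : lift g (snd E E) ≫ act' = fst E E := hmono _ _ ((hact _ _).trans hg)
    refine ⟨lift g (snd E E), ?_, ?_⟩
    · refine CartesianMonoidalCategory.hom_ext _ _ ?_ (by simp)
      rw [Category.assoc, lift_fst, Category.id_comp]
      have h1 := congrArg (lift aE.act (snd G E) ≫ ·) hg'
      simp only [comp_lift_assoc, lift_fst, lift_snd] at h1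
      refine act_cancel_of_π b π hsq (x := snd G E ≫ j) ?_
      rw [← hact, ← hact]
      refine congrArg (· ≫ j) (h1.trans ?_)
      rw [lift_fst_snd, Category.id_comp]
    · refine CartesianMonoidalCategory.hom_ext _ _ ?_ (by simp)
      rw [Category.assoc, lift_fst, Category.id_comp]
      exact hg'
  · obtain ⟨R, hR, hsec⟩ := hloc
    obtain ⟨Fc, rfl⟩ := Precoverage.mem_iff_exists_zeroHypercover.mp hR
    choose s hs using fun l => hsec (Fc.f l) (Presieve.ofArrows.mk l)
    refine ⟨Presieve.ofArrows (fun l => pullback σ.left (Fc.f l)) (fun l => pullback.fst σ.left (Fc.f l)),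
      Precoverage.mem_coverings_of_isPullback Fc.f hR σ.left (fun l => pullback.fst σ.left (Fc.f l))
        (fun l => pullback.snd σ.left (Fc.f l)) fun l => IsPullback.of_hasPullback _ _, ?_⟩
    rintro S' f ⟨l⟩
    let T : Over S := Over.mk (pullback.fst σ.left (Fc.f l) ≫ (𝟙_ (Over S)).hom)
    have hsl : s l ≫ π.left = Fc.f l := hs l
    let c : T ⟶ F := Over.homMk (pullback.snd _ _ ≫ s l) (by
      show (pullback.snd _ _ ≫ s l) ≫ F.hom = pullback.fst _ _ ≫ (𝟙_ (Over S)).hom
      rw [← Over.w π, Category.assoc, reassoc_of% hsl, ← pullback.condition_assoc, Over.w σ])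
    have hc : c ≫ π = toUnit T ≫ σ := Over.OverMorphism.ext (by
      show (pullback.snd _ _ ≫ s l) ≫ π.left = (toUnit T).left ≫ σ.left
      rw [Category.assoc, hsl, ← pullback.condition]
      congr 1)
    refine ⟨(pullback.lift c (toUnit T) hc).left, ?_⟩
    exact (Over.w (pullback.lift c (toUnit T) hc : T ⟶ E)).trans (Category.comp_id _)
  · have h := hact (fst G E) (snd G E)
    rw [lift_fst_snd, Category.id_comp] at h
    refine h.trans ?_
    show lift _ _ ≫ b.act = _
    congr 1
  · exact IsPullback.of_isLimit' ⟨by simpa using hj (𝟙 E)⟩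
      (PullbackCone.isLimitAux' _ fun s => ⟨pullback.lift s.fst (toUnit _) (by
        rw [s.condition, toUnit_unique s.snd (toUnit _)]), pullback.lift_fst _ _ _, toUnit_unique _ _,
        fun {m} h1 _ => hmono _ _ (h1.trans (pullback.lift_fst _ _ _).symm)⟩)

theorem existsUnique_section {E : Over S} (aE : AlgGrp.Action G E)
    (hE : NonAbH1.IsTorsorFor Scheme.etalePrecoverage aE) (φ : E ⟶ F) (hφ : aE.act ≫ φ = (G ◁ φ) ≫ b.act) :
    (∃! σ : 𝟙_ (Over S) ⟶ Q, toUnit E ≫ σ = φ ≫ π) ∧
      ∀ σ : 𝟙_ (Over S) ⟶ Q, toUnit E ≫ σ = φ ≫ π → IsPullback φ (toUnit E) π σ := by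
  obtain ⟨R, hR, hsec⟩ := hE.2
  have hl : NonAbH1.IsLocallyTrivialFor Scheme.fpqcPrecoverage E :=
    ⟨R, (Scheme.etalePrecoverage_le_proetalePrecoverage.trans Scheme.proetalePrecoverage_le_fpqcPrecoverage) _ hR, hsec⟩
  have hφT : ∀ {T : Over S} (g : T ⟶ G) (e : T ⟶ E), act aE g e ≫ φ = act b g (e ≫ φ) := fun {T} g e => by
    rw [act, act, Category.assoc, hφ, lift_whiskerLeft_assoc]
  obtain ⟨σ, hσ⟩ := descend_point hl (φ ≫ π) fun T e e' => by
    obtain ⟨g, rfl⟩ := exists_act_eq hE.1 e e'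
    rw [← Category.assoc, ← Category.assoc, hφT, act_π b π hsq]
  refine ⟨⟨σ, (hσ E (𝟙 E)).trans (Category.id_comp _), fun σ' h' => ext_cover hl _ _ fun T z e => ?_⟩, fun σ' h' => ?_⟩
  · rw [toUnit_unique z (toUnit T), hσ T e]
    conv_lhs => rw [← toUnit_unique (e ≫ toUnit E) (toUnit T), Category.assoc, h']
  · have hinj : ∀ {T : Over S} (e e' : T ⟶ E), e ≫ φ = e' ≫ φ → e = e' := fun {T} e e' he => by
      obtain ⟨g, rfl⟩ := exists_act_eq hE.1 e e'
      rw [hφT] at he
      rw [← act_cancel_of_π b π hsq (g := (1 : T ⟶ G)) (g' := g) (by rw [act_one]; exact he), act_one]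
    refine IsPullback.of_isLimit' ⟨h'.symm⟩ (PullbackCone.isLimitAux' _ fun s => ?_)
    suffices H : ∃ e : s.pt ⟶ E, e ≫ φ = s.fst from
      ⟨H.choose, H.choose_spec, toUnit_unique _ _, fun {m} h1 _ => hinj _ _ (h1.trans H.choose_spec.symm)⟩
    have hc : (fst s.pt E ≫ s.fst) ≫ π = (snd s.pt E ≫ φ) ≫ π := by
      rw [Category.assoc, s.condition, Category.assoc, ← h', ← Category.assoc, ← Category.assoc]
      exact congrArg (· ≫ σ') (toUnit_unique _ _)
    obtain ⟨g, hg⟩ := exists_act_eq_of_π b π hsq _ _ hc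
    obtain ⟨e, he⟩ := descend hl (act aE g (snd s.pt E)) fun T z x x' => hinj _ _ (by
      rw [Category.assoc (lift z x), Category.assoc (lift z x'), hφT, hg, lift_fst_assoc, lift_fst_assoc])
    exact ⟨e, ext_cover hl _ _ fun T z x => by
      rw [← Category.assoc, he T z x, Category.assoc (lift z x), hφT, hg, lift_fst_assoc]⟩

end TorsSeqLib
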